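import Cfsg.Agent.Lib.M24Elt.Forest

/-!
Orbits of the stabiliser of a oct on the table octChunks
(written by a script).
-/

set_option autoImplicit false
set_option maxRecDepth 100000

namespace CfsgLib.M24Elt

def octOctBase : List ℕ := [5279]

def octOctGens : List ℕ := [197411344357304622371976721163674410842095688014690191876, 345388439178432865375085283035552352199351899088054453251]

def octOctForest64_ : List (ℕ × ℕ × ℕ) := []

theorem octOct_class64 :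
    classOk 2 octOctBase octOctGens octChunks 64 0 octOctForest64_ 1 1 = true := by
  decide +kernel

def octOctForest0_0 : List (ℕ × ℕ × ℕ) := [
  (0, 0, 698), (0, 0, 160), (0, 0, 504), (0, 0, 721), (1, 1, 477), (0, 0, 499), (3, 1, 328), (0, 0, 753),
  (0, 0, 546), (0, 0, 306), (3, 1, 661), (3, 1, 434), (0, 0, 446), (0, 0, 618), (0, 0, 576), (0, 1, 677),
  (0, 0, 204), (4, 1, 737), (0, 1, 380), (3, 1, 755), (0, 1, 727), (0, 0, 481), (5, 1, 289), (0, 0, 613),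
  (0, 0, 393), (0, 0, 746), (2, 1, 650), (0, 1, 230), (0, 1, 679)]

def octOctForest0_ : List (ℕ × ℕ × ℕ) := octOctForest0_0

theorem octOct_class0 :
    classOk 2 octOctBase octOctGens octChunks 0 129 octOctForest0_ 237266333683518257912207492348633506564106048576282280087356550228698437672764733606641591423816155322677636485967707437815289375818063083687539239380686348420542694190350393550706810951147753390494427974922421486539826209488896 30 = true := by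
  decide +kernel

def octOctForest16_0 : List (ℕ × ℕ × ℕ) := [
  (0, 0, 303), (0, 0, 112), (0, 0, 595), (0, 0, 382), (0, 0, 639), (0, 0, 49), (0, 0, 223), (0, 0, 430),
  (0, 1, 337), (3, 1, 16), (0, 0, 420), (0, 1, 451), (4, 1, 114), (0, 0, 507), (0, 1, 139), (0, 0, 104),
  (3, 1, 26), (0, 1, 175), (0, 0, 387), (5, 1, 356), (0, 0, 12), (0, 0, 23), (0, 1, 666), (2, 1, 567),
  (0, 0, 723), (1, 1, 304), (3, 1, 720), (0, 1, 353), (0, 1, 372), (0, 0, 411), (1, 1, 490), (6, 1, 213),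
  (0, 0, 255), (0, 0, 164), (2, 1, 8), (0, 0, 140), (0, 0, 103), (0, 0, 592), (0, 1, 520), (2, 1, 612),
  (0, 0, 79), (3, 1, 513), (0, 0, 295), (0, 1, 509), (2, 1, 589), (0, 0, 82), (4, 1, 615), (0, 0, 572),
  (0, 0, 626), (1, 1, 68), (0, 0, 4), (0, 0, 142), (4, 1, 35), (0, 0, 218), (1, 1, 542), (6, 1, 159),
  (0, 0, 391), (0, 0, 691), (0, 0, 335), (0, 0, 216), (1, 1, 385), (2, 1, 479), (0, 0, 541), (0, 0, 135),
  (2, 1, 350), (0, 0, 132), (0, 1, 96), (2, 1, 429), (0, 1, 338), (5, 1, 467), (0, 0, 364), (0, 0, 18),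
  (0, 0, 333), (0, 1, 416), (2, 1, 262), (0, 1, 156), (4, 1, 469), (0, 0, 48), (0, 0, 30), (0, 0, 25),
  (1, 1, 52), (2, 1, 86), (0, 0, 537), (3, 1, 331), (0, 0, 40), (1, 1, 348), (0, 1, 742), (0, 0, 54),
  (1, 1, 685), (7, 1, 252), (0, 0, 470), (0, 0, 47), (0, 0, 29), (0, 1, 53), (0, 1, 591), (3, 1, 85),
  (0, 0, 538), (3, 1, 330), (0, 0, 39), (0, 0, 354), (0, 0, 15), (1, 1, 371), (2, 1, 285), (2, 1, 347),
  (3, 1, 212), (0, 0, 59), (0, 1, 217), (0, 0, 174), (0, 0, 388), (4, 1, 90), (0, 0, 696), (0, 0, 27),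
  (0, 1, 120), (2, 1, 369), (2, 1, 237), (0, 1, 545), (7, 1, 46), (0, 0, 291), (0, 0, 125), (0, 0, 527),
  (0, 0, 13), (0, 0, 468), (0, 0, 365), (2, 1, 229), (0, 1, 654), (4, 1, 71), (0, 0, 20), (0, 1, 634)]

def octOctForest16_1 : List (ℕ × ℕ × ℕ) := [
  (0, 0, 377), (1, 1, 221), (0, 1, 506), (0, 0, 151), (5, 1, 548), (0, 0, 342), (0, 0, 453), (2, 1, 225),
  (4, 1, 7), (0, 0, 236), (0, 0, 70), (0, 0, 21), (0, 1, 635), (2, 1, 549), (0, 0, 343), (0, 0, 452),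
  (2, 1, 226), (0, 1, 222), (4, 1, 544), (0, 0, 6), (0, 1, 516), (0, 1, 565), (3, 1, 510), (0, 0, 37),
  (0, 0, 491), (2, 1, 22), (4, 1, 515), (0, 0, 34), (4, 1, 133), (0, 0, 108), (0, 0, 682), (0, 0, 145),
  (0, 0, 480), (0, 1, 351), (2, 1, 265), (0, 0, 646), (1, 1, 99), (0, 1, 124), (4, 1, 421), (0, 0, 384),
  (0, 1, 444), (0, 0, 560), (3, 1, 450), (0, 0, 311), (1, 1, 412), (0, 0, 83), (6, 1, 95), (0, 0, 741),
  (0, 0, 55), (0, 0, 220), (1, 1, 559), (0, 0, 521), (0, 1, 215), (2, 1, 109), (0, 0, 683), (4, 1, 686),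
  (0, 0, 2), (0, 1, 189), (8, 1, 188), (0, 0, 564), (0, 0, 514), (0, 0, 296), (0, 0, 284), (0, 1, 526),
  (0, 0, 14), (0, 1, 228), (0, 0, 370), (3, 1, 60), (3, 1, 508), (0, 0, 214), (0, 0, 256), (0, 0, 163),
  (2, 1, 9), (2, 1, 84), (0, 0, 528), (0, 0, 130), (0, 0, 324), (0, 1, 231), (3, 1, 165), (0, 0, 182),
  (6, 1, 590), (0, 0, 81), (0, 0, 667), (0, 0, 201), (0, 0, 655), (0, 0, 540), (2, 1, 28), (0, 1, 121),
  (0, 1, 274), (4, 1, 134), (2, 1, 153), (0, 0, 185), (0, 0, 566), (6, 1, 529), (0, 0, 131), (0, 0, 323),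
  (0, 1, 232), (0, 0, 243), (0, 0, 74), (4, 1, 144), (0, 1, 264), (0, 0, 647), (0, 0, 45), (0, 0, 290),
  (3, 1, 100), (0, 0, 511), (5, 1, 166), (0, 0, 183), (0, 0, 614), (1, 1, 150), (0, 0, 275), (0, 1, 73),
  (0, 1, 244), (8, 1, 571), (0, 0, 627), (0, 1, 19), (0, 0, 334), (0, 0, 152), (0, 0, 186), (0, 1, 38),
  (0, 1, 310), (3, 1, 202), (2, 1, 415), (0, 1, 722), (3, 1, 263), (0, 0, 611), (0, 0, 78), (2, 1, 155)]

def octOctForest16_2 : List (ℕ × ℕ × ℕ) := [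
  (0, 1, 539), (5, 1, 69), (0, 0, 3), (0, 0, 143), (0, 0, 445), (0, 1, 376), (4, 1, 111), (0, 0, 594),
  (0, 0, 383), (0, 0, 640), (0, 0, 50), (1, 1, 115), (2, 1, 357), (0, 0, 11), (1, 1, 719), (4, 1, 158),
  (0, 0, 390), (0, 0, 692), (0, 0, 336), (3, 1, 251), (0, 1, 211), (0, 1, 91), (0, 0, 695)]

def octOctForest16_ : List (ℕ × ℕ × ℕ) := octOctForest16_0 ++ octOctForest16_1 ++ octOctForest16_2

theorem octOct_class16 :
    classOk 2 octOctBase octOctGens octChunks 16 1 octOctForest16_ 34701557985912652979966972443832281570735156878343584973342477902149048888502391007588532567512394575602916364407215540255191487399002660847817890979617816316685458231420349373694537717317292066499743210528386563616465091550 280 = true := by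
  decide +kernel

def octOctForest4_0 : List (ℕ × ℕ × ℕ) := [
  (0, 0, 240), (0, 0, 435), (0, 0, 190), (0, 0, 715), (0, 0, 697), (0, 0, 294), (0, 1, 92), (0, 0, 754),
  (0, 0, 126), (0, 1, 207), (0, 0, 569), (0, 0, 690), (5, 1, 326), (0, 1, 127), (4, 1, 447), (0, 0, 562),
  (0, 0, 588), (0, 1, 141), (0, 0, 322), (4, 1, 395), (0, 0, 671), (0, 1, 272), (0, 0, 747), (0, 1, 418),
  (4, 1, 437), (0, 0, 386), (5, 1, 466), (0, 0, 169), (0, 0, 194), (0, 0, 713), (1, 1, 638), (0, 0, 316),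
  (0, 0, 286), (0, 0, 705), (3, 1, 170), (3, 1, 619), (0, 0, 751), (0, 1, 464), (0, 1, 401), (3, 1, 241),
  (0, 0, 471), (0, 0, 172), (1, 1, 419), (5, 1, 731), (0, 1, 413), (0, 0, 279), (1, 1, 349), (0, 0, 493),
  (0, 0, 118), (0, 0, 593), (8, 1, 278), (0, 0, 749), (0, 0, 58), (0, 0, 460), (0, 0, 378), (0, 0, 154),
  (0, 1, 119), (0, 1, 305), (3, 1, 448), (0, 1, 700), (3, 1, 455), (0, 0, 180), (1, 1, 725), (0, 1, 688),
  (0, 0, 238), (1, 1, 689), (5, 1, 271), (0, 0, 709), (1, 1, 280), (0, 1, 652), (4, 1, 374), (0, 0, 344),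
  (0, 0, 425), (1, 1, 503), (0, 1, 699), (3, 1, 458), (0, 1, 496), (0, 0, 405), (0, 1, 717), (2, 1, 738),
  (0, 0, 257), (0, 0, 258), (0, 0, 57), (8, 1, 259), (0, 0, 56), (0, 0, 42), (0, 0, 426), (0, 0, 110),
  (0, 1, 665), (2, 1, 706), (0, 0, 456), (1, 1, 740), (0, 0, 61), (4, 1, 676), (2, 1, 523), (2, 1, 577),
  (0, 0, 534), (0, 0, 462), (0, 0, 260), (2, 1, 250), (0, 1, 563), (3, 1, 44), (0, 0, 361), (0, 0, 422),
  (0, 0, 394), (0, 1, 752), (3, 1, 757), (0, 1, 454), (3, 1, 651), (0, 0, 432), (0, 0, 268), (2, 1, 669),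
  (7, 1, 433), (0, 0, 483), (0, 0, 703), (0, 0, 31), (0, 0, 293), (0, 0, 209), (0, 0, 734), (3, 1, 203),
  (0, 1, 198), (0, 0, 660), (1, 1, 557), (4, 1, 389), (0, 0, 598), (0, 0, 441), (1, 1, 678), (0, 0, 663)]

def octOctForest4_1 : List (ℕ × ℕ × ℕ) := [
  (0, 0, 675), (0, 0, 281), (5, 1, 730), (0, 0, 439), (0, 0, 659), (0, 1, 276), (2, 1, 400), (0, 1, 489),
  (6, 1, 485), (0, 0, 553), (0, 0, 41), (0, 1, 253), (0, 0, 436), (0, 1, 363), (2, 1, 321), (3, 1, 123),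
  (0, 0, 693), (0, 0, 417), (2, 1, 643), (0, 1, 315), (4, 1, 379), (0, 0, 33), (0, 1, 582), (2, 1, 704),
  (0, 0, 43), (0, 0, 457), (0, 0, 77), (3, 1, 694), (5, 1, 459), (0, 0, 474), (0, 0, 367), (1, 1, 478),
  (0, 0, 610), (0, 1, 269), (0, 1, 535), (3, 1, 427), (0, 0, 396), (7, 1, 312), (0, 0, 205), (0, 0, 574),
  (0, 1, 555), (0, 0, 32), (0, 0, 301), (0, 0, 409), (3, 1, 547), (0, 0, 147), (0, 1, 668), (0, 1, 89),
  (0, 0, 632), (1, 1, 573), (4, 1, 596), (0, 1, 299), (5, 1, 531), (0, 0, 242), (0, 0, 475), (0, 0, 375),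
  (0, 0, 341), (1, 1, 750), (0, 1, 362), (3, 1, 743), (0, 0, 373), (3, 1, 649), (0, 0, 366), (0, 0, 233),
  (1, 1, 339), (2, 1, 266), (0, 0, 556), (0, 1, 313), (0, 0, 122), (6, 1, 551), (0, 0, 340), (0, 0, 297),
  (0, 0, 208), (1, 1, 617), (0, 1, 530), (3, 1, 724), (0, 0, 197), (3, 1, 656), (0, 0, 609), (5, 1, 586),
  (0, 1, 24), (0, 1, 658), (0, 0, 608), (0, 0, 267), (0, 1, 600), (0, 0, 101), (3, 1, 512), (2, 1, 621),
  (0, 0, 558), (0, 1, 162), (8, 1, 97), (0, 0, 729), (0, 0, 87), (0, 0, 672), (0, 0, 404), (0, 0, 670),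
  (0, 0, 117), (0, 0, 641), (0, 0, 168), (0, 1, 524), (2, 1, 607), (3, 1, 561), (0, 1, 36), (0, 0, 157),
  (1, 1, 624), (0, 1, 601), (5, 1, 728), (0, 0, 94), (0, 0, 744), (0, 1, 492), (3, 1, 406), (0, 0, 739),
  (0, 0, 167), (1, 1, 440), (0, 1, 355), (3, 1, 463), (0, 1, 449), (0, 0, 711), (6, 1, 629), (0, 0, 309),
  (0, 0, 329), (0, 1, 65), (0, 0, 239), (1, 1, 63), (3, 1, 138), (0, 0, 273), (1, 1, 568), (0, 1, 277)]

def octOctForest4_2 : List (ℕ × ℕ × ℕ) := [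
  (4, 1, 136), (0, 0, 196), (0, 0, 620), (0, 1, 181), (2, 1, 179), (0, 1, 606), (3, 1, 187), (0, 1, 603),
  (5, 1, 622), (0, 0, 712), (0, 0, 636), (0, 0, 500), (0, 0, 282), (0, 1, 195), (0, 0, 575), (3, 1, 332),
  (0, 0, 300), (1, 1, 443), (0, 1, 486), (4, 1, 320), (0, 0, 578), (0, 0, 599), (0, 0, 318), (3, 1, 98),
  (0, 0, 673), (0, 0, 128), (1, 1, 64), (5, 1, 360), (0, 1, 505), (0, 0, 623), (1, 1, 423), (4, 1, 288),
  (0, 0, 645), (0, 0, 171), (0, 1, 219), (0, 0, 261), (0, 0, 368), (2, 1, 570), (3, 1, 146), (0, 0, 399),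
  (0, 1, 501), (0, 0, 116), (1, 1, 701), (3, 1, 227), (3, 1, 66), (0, 1, 206), (0, 0, 718), (0, 0, 684),
  (1, 1, 476), (7, 1, 702), (0, 0, 292), (0, 0, 327), (0, 0, 583), (0, 1, 178), (0, 0, 107), (0, 0, 726),
  (0, 1, 461), (3, 1, 62), (4, 1, 184), (0, 0, 662), (0, 0, 552), (0, 0, 298), (0, 0, 488), (0, 0, 707),
  (0, 1, 403), (2, 1, 465), (2, 1, 224), (2, 1, 173), (0, 0, 392), (0, 1, 497), (2, 1, 270), (0, 1, 307),
  (4, 1, 72), (0, 0, 137), (0, 0, 200), (1, 1, 597), (2, 1, 605), (0, 0, 199), (4, 1, 105), (0, 0, 642),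
  (0, 1, 550), (0, 0, 410), (3, 1, 585), (0, 0, 517), (0, 1, 522), (2, 1, 584), (0, 0, 518), (0, 0, 494),
  (2, 1, 75), (0, 1, 314), (7, 1, 414), (0, 0, 192), (0, 0, 735), (0, 0, 616), (1, 1, 424), (0, 0, 319),
  (1, 1, 431), (3, 1, 325), (0, 0, 681), (0, 0, 581), (0, 1, 235), (3, 1, 177), (0, 1, 113), (0, 0, 644),
  (5, 1, 442), (0, 0, 758), (0, 0, 579), (0, 1, 102), (2, 1, 397), (0, 0, 628), (3, 1, 498), (0, 0, 283),
  (1, 1, 402), (6, 1, 680), (0, 0, 580), (0, 0, 637), (0, 0, 472), (0, 1, 687), (2, 1, 630), (0, 0, 67),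
  (1, 1, 88), (0, 0, 602), (4, 1, 536), (0, 0, 345), (0, 0, 495), (0, 1, 502), (0, 0, 664), (0, 1, 106)]

def octOctForest4_3 : List (ℕ × ℕ × ℕ) := [
  (2, 1, 352), (4, 1, 287), (0, 1, 302), (4, 1, 554), (0, 0, 210), (0, 0, 317), (0, 0, 407), (0, 0, 519),
  (0, 0, 359), (0, 1, 473), (3, 1, 381), (0, 0, 358), (0, 0, 346), (4, 1, 248), (0, 0, 254), (0, 1, 631),
  (0, 0, 76), (0, 1, 648), (2, 1, 525), (5, 1, 148), (0, 0, 398), (0, 0, 532), (0, 0, 149), (0, 0, 484),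
  (0, 0, 733), (1, 1, 756), (3, 1, 625), (0, 0, 710), (1, 1, 234), (3, 1, 708), (0, 1, 732), (3, 1, 657),
  (0, 0, 653), (0, 1, 543), (0, 0, 17), (1, 1, 93), (3, 1, 533), (0, 0, 10), (0, 0, 308), (6, 1, 51),
  (0, 0, 161), (0, 0, 438), (0, 1, 428), (0, 0, 482), (1, 1, 748), (4, 1, 193), (0, 0, 736), (0, 0, 714),
  (0, 0, 633), (0, 0, 249), (0, 1, 587), (0, 0, 191), (4, 1, 716), (0, 1, 408), (3, 1, 745), (0, 0, 245),
  (3, 1, 674), (0, 0, 487), (1, 1, 247), (0, 0, 246), (0, 0, 176), (2, 1, 80), (0, 0, 604)]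

def octOctForest4_ : List (ℕ × ℕ × ℕ) := octOctForest4_0 ++ octOctForest4_1 ++ octOctForest4_2 ++ octOctForest4_3

theorem octOct_class4 :
    classOk 2 octOctBase octOctGens octChunks 4 5 octOctForest4_ 2794960863783317968397663104082247964390428718447887444958631119063030180243926620117347712287066484529793109615502012702448322706356284771941236526793140946271841745392140657877781380510350641866780867582094528155984148836779040 448 = true := by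
  decide +kernel

theorem octOct_cover : coverOk 2 octOctBase octChunks [64, 0, 16, 4] = true := by
  decide +kernel

end CfsgLib.M24Elt
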