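import Cfsg.Agent.Lib.M24Elt.Forest

/-!
Orbits of the stabiliser of a sext on the table octChunks
(written by a script).
-/

set_option autoImplicit false
set_option maxRecDepth 100000

namespace CfsgLib.M24Elt

def sextOctBase : List ℕ := [403456, 606272, 1081368, 2098434, 4194341, 8393344]

def sextOctGens : List ℕ := [123373394463528312613334818062528270079696871757611402241, 320200284218698719116247580857597142875978454320686569236]

def sextOctForest32_0 : List (ℕ × ℕ × ℕ) := [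
  (0, 0, 553), (0, 0, 683), (0, 0, 450), (0, 0, 295), (0, 0, 194), (4, 1, 257), (0, 0, 592), (0, 0, 392),
  (2, 1, 627), (0, 0, 415), (4, 1, 272), (0, 0, 180), (1, 1, 569), (0, 0, 378)]

def sextOctForest32_ : List (ℕ × ℕ × ℕ) := sextOctForest32_0

theorem sextOct_class32 :
    classOk 2 sextOctBase sextOctGens octChunks 32 129 sextOctForest32_ 40131652080904949800415342460325656039019390371461853182213504061689136343871385977602400225960086567919912644602296751785110706886007265962655474743078195176145647307065770113797594875891034227111389822976 15 = true := by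
  decide +kernel

def sextOctForest16_0 : List (ℕ × ℕ × ℕ) := [
  (0, 0, 387), (0, 0, 43), (0, 0, 74), (0, 0, 407), (0, 0, 27), (0, 1, 673), (0, 0, 593), (0, 0, 240),
  (0, 0, 676), (2, 1, 360), (0, 1, 220), (0, 1, 421), (4, 1, 2), (0, 0, 742), (4, 1, 200), (0, 0, 551),
  (0, 0, 57), (0, 0, 749), (0, 1, 516), (0, 0, 693), (3, 1, 171), (0, 0, 584), (0, 0, 80), (4, 1, 464),
  (0, 0, 151), (0, 0, 685), (2, 1, 672), (0, 0, 434), (0, 0, 650), (2, 1, 367), (4, 1, 710), (0, 0, 238),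
  (0, 0, 324), (0, 0, 447), (0, 0, 5), (2, 1, 583), (2, 1, 491), (0, 0, 441), (3, 1, 110), (0, 0, 121),
  (0, 0, 365), (0, 0, 338), (2, 1, 329), (2, 1, 485), (0, 1, 96), (0, 0, 375), (7, 1, 73), (0, 0, 70),
  (0, 0, 20), (1, 1, 695), (0, 0, 513), (0, 0, 222), (0, 1, 595), (0, 1, 172), (3, 1, 728), (0, 0, 82),
  (0, 0, 452), (4, 1, 603), (0, 0, 23), (0, 0, 488), (0, 1, 617), (2, 1, 436), (0, 0, 101), (1, 1, 22),
  (3, 1, 463), (0, 0, 296), (7, 1, 743), (0, 0, 179), (0, 0, 225), (0, 0, 205), (0, 1, 442), (0, 1, 563),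
  (3, 1, 30), (0, 1, 181), (0, 0, 56), (0, 0, 575), (1, 1, 359), (5, 1, 682), (0, 0, 267), (0, 1, 391),
  (0, 0, 402), (0, 0, 28), (0, 1, 243), (2, 1, 660), (4, 1, 515), (0, 0, 567), (0, 0, 473), (0, 0, 298),
  (3, 1, 498), (0, 0, 135), (0, 0, 398), (0, 0, 568), (2, 1, 75), (2, 1, 218), (0, 0, 496), (6, 1, 148),
  (0, 1, 477), (0, 0, 316), (0, 0, 185), (0, 0, 83), (2, 1, 26), (0, 0, 741), (0, 1, 357), (0, 0, 343),
  (0, 1, 613), (4, 1, 539), (3, 1, 21), (0, 1, 705), (0, 0, 552), (0, 0, 217), (0, 1, 696), (9, 1, 736),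
  (0, 0, 61), (0, 0, 244), (0, 0, 734), (0, 1, 97), (0, 0, 649), (0, 0, 435), (0, 0, 454), (3, 1, 502),
  (0, 1, 193), (4, 1, 540), (0, 1, 606), (0, 0, 4), (0, 1, 59), (0, 0, 577), (0, 0, 532), (7, 1, 669)]

def sextOctForest16_1 : List (ℕ × ℕ × ℕ) := [
  (0, 0, 196), (0, 0, 630), (0, 0, 602), (0, 1, 431), (3, 1, 81), (0, 0, 268), (0, 0, 622), (1, 1, 751),
  (0, 1, 116), (5, 1, 522), (0, 0, 747), (0, 0, 755), (0, 0, 299), (0, 0, 327), (2, 1, 339), (0, 1, 472),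
  (3, 1, 55), (2, 1, 247), (0, 0, 195), (0, 0, 716), (6, 1, 446), (0, 0, 241), (0, 0, 430), (0, 0, 712),
  (0, 0, 1), (0, 0, 655), (2, 1, 618), (3, 1, 258), (0, 0, 426), (0, 0, 520), (0, 0, 52), (0, 1, 722),
  (2, 1, 154), (2, 1, 355), (0, 0, 637), (0, 0, 209), (0, 0, 283), (2, 1, 358), (0, 1, 254), (5, 1, 60),
  (0, 0, 704), (0, 0, 518), (5, 1, 484), (0, 0, 328), (0, 0, 173), (0, 0, 403), (1, 1, 246), (2, 1, 478),
  (0, 1, 582), (0, 0, 721), (4, 1, 388), (0, 0, 400), (1, 1, 409), (0, 0, 58), (0, 0, 71), (0, 0, 390),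
  (0, 0, 54), (1, 1, 574), (10, 1, 611), (0, 0, 3), (0, 0, 236), (0, 0, 594), (0, 0, 72), (0, 0, 239),
  (0, 1, 534), (0, 0, 708), (0, 0, 270), (4, 1, 420), (0, 0, 117), (0, 0, 519), (0, 1, 224), (5, 1, 535),
  (0, 0, 256), (0, 0, 490), (0, 0, 134), (0, 0, 29), (1, 1, 596), (3, 1, 612), (0, 0, 389), (1, 1, 541),
  (0, 1, 639), (0, 0, 183), (1, 1, 640), (5, 1, 307), (0, 1, 223), (0, 0, 501), (0, 1, 416), (6, 1, 723),
  (0, 0, 340), (0, 0, 278), (0, 0, 623), (0, 0, 102), (0, 0, 453), (0, 1, 653), (3, 1, 279), (0, 0, 311),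
  (3, 1, 79), (0, 0, 356), (3, 1, 694), (0, 0, 119), (0, 0, 648), (1, 1, 78), (2, 1, 341), (0, 1, 461),
  (0, 1, 418), (5, 1, 169), (0, 0, 226), (0, 0, 429), (0, 0, 517), (3, 1, 497), (0, 0, 678), (0, 0, 136),
  (0, 0, 662), (0, 0, 724), (4, 1, 514), (0, 1, 364), (6, 1, 604), (0, 0, 578), (0, 0, 628), (0, 0, 667),
  (0, 0, 492), (0, 0, 306), (0, 1, 345), (3, 1, 542), (0, 1, 310), (3, 1, 668), (0, 1, 245), (3, 1, 197)]

def sextOctForest16_2 : List (ℕ × ℕ × ℕ) := [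
  (0, 0, 84), (0, 0, 711), (0, 0, 697), (2, 1, 288), (0, 0, 132), (1, 1, 186), (3, 1, 656), (0, 0, 297),
  (0, 1, 451), (5, 1, 31), (0, 0, 237), (0, 1, 377), (0, 0, 337), (0, 0, 95), (0, 0, 120), (8, 1, 152),
  (0, 0, 221), (0, 0, 427), (0, 0, 554), (0, 0, 25), (0, 0, 654), (1, 1, 150), (0, 0, 564), (1, 1, 130),
  (3, 1, 536), (0, 0, 53), (0, 1, 376), (0, 1, 591), (5, 1, 147), (0, 0, 261), (0, 0, 206), (0, 0, 543),
  (1, 1, 98), (0, 1, 619), (3, 1, 686), (2, 1, 419), (0, 1, 42), (0, 0, 665), (0, 1, 100), (2, 1, 342),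
  (5, 1, 709), (0, 0, 363), (0, 0, 626), (0, 0, 182), (0, 0, 277), (2, 1, 133), (2, 1, 531), (0, 0, 566),
  (0, 0, 282), (0, 0, 305), (2, 1, 99), (0, 1, 323), (3, 1, 684), (0, 1, 219), (0, 1, 462), (5, 1, 170),
  (0, 0, 44), (0, 1, 366), (0, 1, 149), (3, 1, 744), (0, 0, 309), (0, 1, 131), (0, 1, 605), (3, 1, 533),
  (0, 1, 474), (0, 0, 168), (7, 1, 666), (0, 0, 322), (0, 0, 300), (0, 0, 607), (0, 0, 698), (0, 0, 638),
  (1, 1, 24), (3, 1, 629), (2, 1, 735), (0, 0, 481), (0, 1, 269), (0, 0, 443), (0, 0, 579), (4, 1, 118),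
  (0, 0, 271), (0, 0, 733), (1, 1, 281), (0, 1, 128), (3, 1, 479), (0, 0, 184), (1, 1, 565), (0, 0, 344),
  (6, 1, 153), (0, 0, 480), (0, 0, 417), (0, 0, 521), (0, 0, 401), (0, 0, 661), (4, 1, 208), (0, 0, 346),
  (1, 1, 408), (3, 1, 255), (0, 0, 321), (0, 0, 162), (1, 1, 399), (0, 0, 748), (1, 1, 127)]

def sextOctForest16_ : List (ℕ × ℕ × ℕ) := sextOctForest16_0 ++ sextOctForest16_1 ++ sextOctForest16_2

theorem sextOct_class16 :
    classOk 2 sextOctBase sextOctGens octChunks 16 0 sextOctForest16_ 206717416697294741821562089641996937119366869180043780897012473270328439988199067770212431013027940023250875586663351952841549953025205003710006748149242114770053755486065646809350925579107096073324374609564643962038293732786239 360 = true := by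
  decide +kernel

def sextOctForest14_0 : List (ℕ × ℕ × ℕ) := [
  (0, 0, 537), (0, 0, 122), (0, 0, 260), (0, 0, 164), (0, 0, 353), (0, 1, 139), (0, 0, 525), (0, 1, 727),
  (0, 0, 67), (0, 0, 750), (4, 1, 424), (0, 0, 213), (0, 0, 614), (0, 1, 616), (0, 1, 319), (3, 1, 601),
  (2, 1, 157), (0, 0, 273), (1, 1, 333), (0, 1, 34), (0, 0, 90), (7, 1, 556), (0, 0, 645), (0, 1, 40),
  (0, 0, 720), (0, 0, 332), (1, 1, 585), (2, 1, 675), (0, 1, 16), (0, 0, 470), (5, 1, 508), (0, 0, 104),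
  (0, 1, 719), (0, 0, 87), (0, 0, 229), (4, 1, 671), (0, 0, 166), (0, 0, 457), (0, 1, 688), (3, 1, 233),
  (5, 1, 291), (0, 0, 729), (0, 0, 17), (0, 0, 652), (0, 1, 145), (2, 1, 41), (0, 0, 124), (0, 0, 559),
  (1, 1, 571), (2, 1, 146), (4, 1, 609), (0, 0, 471), (0, 0, 318), (0, 0, 589), (0, 0, 88), (2, 1, 558),
  (0, 0, 739), (0, 0, 325), (2, 1, 113), (0, 0, 560), (4, 1, 140), (0, 0, 715), (0, 1, 89), (0, 1, 504),
  (5, 1, 66), (0, 0, 275), (0, 1, 125), (6, 1, 718), (0, 0, 126), (0, 0, 212), (0, 0, 445), (0, 0, 335),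
  (0, 0, 7), (1, 1, 642), (0, 0, 142), (1, 1, 425), (3, 1, 624), (0, 0, 230), (0, 1, 460), (0, 0, 737),
  (3, 1, 384), (0, 1, 680), (0, 1, 385), (5, 1, 317), (0, 1, 46), (0, 0, 465), (0, 0, 199), (0, 1, 107),
  (3, 1, 548), (0, 0, 111), (0, 0, 211), (2, 1, 600), (0, 1, 636), (7, 1, 570), (0, 0, 77), (0, 0, 475),
  (0, 0, 433), (0, 0, 49), (0, 0, 85), (2, 1, 137), (0, 1, 690), (0, 0, 663), (1, 1, 138), (5, 1, 469),
  (0, 0, 198), (0, 1, 438), (0, 0, 633), (0, 1, 740), (6, 1, 483), (0, 0, 177), (0, 0, 354), (0, 0, 382),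
  (1, 1, 555), (0, 0, 523), (0, 1, 352), (4, 1, 314), (0, 0, 313), (0, 1, 334), (2, 1, 507), (0, 1, 557),
  (0, 0, 112), (5, 1, 280), (0, 0, 437), (1, 1, 449), (0, 0, 380), (0, 0, 14), (8, 1, 411), (0, 0, 35)]

def sextOctForest14_1 : List (ℕ × ℕ × ℕ) := [
  (0, 0, 347), (0, 0, 581), (0, 1, 190), (0, 0, 69), (0, 0, 331), (1, 1, 646), (0, 1, 590), (3, 1, 679),
  (0, 0, 677), (0, 0, 293), (1, 1, 216), (0, 0, 503), (3, 1, 92), (0, 0, 489), (1, 1, 286), (0, 0, 207),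
  (6, 1, 699), (0, 0, 37), (0, 0, 284), (1, 1, 526), (0, 0, 103), (0, 1, 444), (2, 1, 39), (0, 0, 545),
  (0, 0, 361), (5, 1, 422), (0, 0, 64), (1, 1, 455), (0, 1, 428), (0, 0, 406), (0, 1, 106), (2, 1, 368),
  (0, 0, 242), (7, 1, 732), (0, 0, 10), (0, 0, 634), (0, 1, 509), (2, 1, 413), (2, 1, 36), (0, 0, 635),
  (0, 0, 731), (0, 0, 234), (0, 1, 511), (0, 1, 167), (3, 1, 598), (0, 0, 287), (4, 1, 745), (0, 0, 187),
  (0, 0, 659), (0, 0, 203), (1, 1, 320), (2, 1, 395), (2, 1, 12), (0, 0, 348), (0, 1, 432), (7, 1, 308),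
  (0, 0, 315), (0, 0, 178), (0, 0, 510), (0, 1, 530), (0, 1, 294), (3, 1, 588), (0, 1, 512), (0, 0, 263),
  (0, 0, 758), (1, 1, 202), (2, 1, 235), (4, 1, 161), (0, 0, 476), (0, 0, 586), (0, 0, 528), (0, 0, 262),
  (0, 0, 670), (1, 1, 572), (3, 1, 160), (0, 0, 647), (4, 1, 550), (0, 0, 289), (0, 1, 383), (0, 0, 714),
  (0, 1, 482), (4, 1, 18), (0, 1, 644), (0, 0, 176), (6, 1, 351), (0, 0, 486), (0, 1, 717), (0, 0, 349),
  (0, 0, 252), (2, 1, 405), (0, 0, 524), (0, 0, 372), (0, 0, 487), (1, 1, 544), (0, 1, 691), (3, 1, 499),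
  (5, 1, 174), (0, 0, 123), (0, 0, 63), (0, 0, 549), (1, 1, 738), (0, 0, 599), (3, 1, 440), (0, 1, 576),
  (0, 1, 386), (0, 0, 105), (5, 1, 350), (0, 0, 231), (0, 1, 159), (0, 0, 369), (9, 1, 700), (0, 0, 45),
  (0, 0, 274), (0, 0, 188), (0, 0, 19), (0, 0, 379), (0, 1, 706), (0, 0, 62), (1, 1, 687), (0, 0, 38),
  (0, 1, 163), (2, 1, 746), (0, 1, 456), (6, 1, 752), (0, 0, 292), (0, 0, 304), (1, 1, 643), (0, 1, 48)]

def sextOctForest14_2 : List (ℕ × ℕ × ℕ) := [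
  (0, 1, 251), (4, 1, 189), (0, 0, 394), (0, 0, 373), (1, 1, 753), (2, 1, 505), (4, 1, 615), (0, 0, 689),
  (0, 0, 227), (0, 0, 757), (0, 0, 204), (1, 1, 9), (2, 1, 701), (2, 1, 493), (0, 0, 191), (0, 0, 703),
  (2, 1, 466), (0, 1, 370), (0, 0, 393), (7, 1, 158), (0, 0, 114), (0, 1, 108), (0, 0, 47), (0, 0, 527),
  (0, 1, 610), (0, 0, 547), (0, 0, 458), (4, 1, 674), (0, 0, 165), (3, 1, 621), (0, 1, 192), (0, 0, 250),
  (0, 1, 500), (2, 1, 276), (0, 0, 326), (1, 1, 109), (6, 1, 506), (0, 0, 641), (0, 1, 692), (0, 0, 404),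
  (0, 0, 459), (0, 1, 631), (2, 1, 448), (0, 1, 713), (3, 1, 259), (0, 1, 468), (4, 1, 144), (0, 0, 115),
  (0, 0, 396), (0, 1, 657), (0, 1, 439), (3, 1, 625), (0, 0, 51), (1, 1, 562), (3, 1, 302), (0, 0, 303),
  (0, 1, 529), (0, 1, 68), (0, 0, 86), (4, 1, 143), (6, 1, 33), (0, 0, 538), (0, 0, 371), (0, 0, 248),
  (0, 1, 726), (0, 0, 702), (0, 0, 210), (2, 1, 546), (3, 1, 155), (0, 1, 730), (0, 0, 249), (0, 0, 301),
  (0, 1, 410), (3, 1, 8), (4, 1, 707), (0, 1, 228), (0, 0, 175), (0, 0, 374), (0, 0, 65), (0, 1, 13),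
  (4, 1, 756), (4, 1, 494), (0, 0, 608), (0, 0, 93), (0, 0, 664), (0, 0, 587), (0, 1, 253), (0, 1, 232),
  (3, 1, 265), (0, 0, 412), (0, 0, 397), (1, 1, 651), (2, 1, 681), (3, 1, 561), (0, 0, 573), (0, 0, 658),
  (0, 0, 495), (0, 1, 312), (3, 1, 264), (2, 1, 94), (0, 1, 266), (4, 1, 414), (0, 0, 214), (0, 0, 725),
  (1, 1, 50), (0, 0, 330), (0, 1, 597), (4, 1, 632), (0, 1, 336), (4, 1, 32), (0, 0, 467), (0, 0, 201),
  (0, 0, 11), (0, 0, 91), (1, 1, 754), (0, 1, 141), (3, 1, 620), (0, 0, 215), (3, 1, 156), (0, 0, 362),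
  (0, 0, 76), (0, 1, 423), (5, 1, 381), (0, 0, 580), (0, 0, 15), (0, 0, 285), (1, 1, 290)]

def sextOctForest14_ : List (ℕ × ℕ × ℕ) := sextOctForest14_0 ++ sextOctForest14_1 ++ sextOctForest14_2

theorem sextOct_class14 :
    classOk 2 sextOctBase sextOctGens octChunks 14 6 sextOctForest14_ 2825544482327527397141248342109247461166938217658543962077909519108930865124198574840722772094078340837817871030944815316394397407991939557827831725208678790472684714079913746773334814772801550705903623095786943032822186388750272 384 = true := by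
  decide +kernel

theorem sextOct_cover : coverOk 2 sextOctBase octChunks [32, 16, 14] = true := by
  decide +kernel

end CfsgLib.M24Elt
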