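import Cfsg.Agent.Lib.M24Elt.Forest

/-!
Orbits of the stabiliser of a trio on the table octChunks
(written by a script).
-/

set_option autoImplicit false
set_option maxRecDepth 100000

namespace CfsgLib.M24Elt

def trioOctBase : List ℕ := [4038912, 4346506, 8391797]

def trioOctGens : List ℕ := [196830644353145545956033005241885959301426662914726494996, 148844769475131960128736212051682461107721985239560622091]

def trioOctForest64_0 : List (ℕ × ℕ × ℕ) := [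
  (0, 0, 506), (1, 1, 354)]

def trioOctForest64_ : List (ℕ × ℕ × ℕ) := trioOctForest64_0

theorem trioOct_class64 :
    classOk 2 trioOctBase trioOctGens octChunks 64 328 trioOctForest64_ 209496998905353079680844140596966345741865090983452124929584472939678678387858119344679667073842721760761278320797262164493911147900942811053331006357504 3 = true := by
  decide +kernel

def trioOctForest32_0 : List (ℕ × ℕ × ℕ) := [
  (0, 0, 448), (0, 0, 685), (0, 0, 439), (0, 0, 3), (0, 0, 173), (0, 0, 334), (0, 1, 610), (4, 1, 208),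
  (0, 0, 527), (0, 0, 197), (0, 1, 241), (0, 1, 493), (4, 1, 305), (0, 0, 528), (0, 0, 428), (2, 1, 324),
  (0, 0, 330), (5, 1, 546), (0, 0, 636), (0, 0, 119), (0, 0, 254), (0, 0, 664), (0, 0, 267), (1, 1, 526),
  (3, 1, 353), (5, 1, 128), (0, 0, 29), (0, 0, 489), (0, 0, 350), (0, 0, 110), (0, 1, 486), (2, 1, 651),
  (2, 1, 316), (0, 1, 269), (4, 1, 504), (0, 0, 30), (0, 1, 297), (5, 1, 597), (0, 0, 657), (0, 0, 675),
  (0, 0, 54), (0, 0, 624), (1, 1, 510), (0, 1, 570), (3, 1, 4), (0, 0, 394), (0, 0, 507), (0, 0, 459),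
  (2, 1, 437), (0, 0, 25), (1, 1, 475), (3, 1, 616), (0, 0, 147), (5, 1, 686), (0, 0, 55), (0, 0, 682),
  (0, 0, 406), (0, 0, 331), (0, 0, 283), (2, 1, 380), (0, 0, 529), (3, 1, 581), (0, 0, 184), (0, 0, 282),
  (2, 1, 698), (3, 1, 149), (0, 0, 511), (0, 0, 500), (4, 1, 172), (0, 0, 97), (0, 0, 679), (0, 0, 224),
  (0, 1, 333), (2, 1, 351), (0, 1, 309), (3, 1, 695), (2, 1, 683), (0, 1, 205), (0, 0, 670), (1, 1, 26),
  (0, 0, 261), (0, 0, 696), (2, 1, 323)]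

def trioOctForest32_ : List (ℕ × ℕ × ℕ) := trioOctForest32_0

theorem trioOct_class32 :
    classOk 2 trioOctBase trioOctGens octChunks 32 0 trioOctForest32_ 1808716163428902322289766619807577120635380030755989859617410042110011396219955051375010871212928367317141559469232199487398830742742175685969970841247717849684364507323941826052846486874067084587727536458301465 84 = true := by
  decide +kernel

def trioOctForest24_0 : List (ℕ × ℕ × ℕ) := [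
  (0, 0, 484), (0, 0, 705), (0, 0, 219), (0, 0, 656), (0, 0, 64), (0, 0, 516), (0, 0, 663), (0, 1, 41),
  (0, 0, 425), (0, 1, 311), (4, 1, 594), (0, 0, 113), (0, 0, 492), (0, 1, 542), (0, 0, 442), (3, 1, 101),
  (0, 0, 258), (0, 1, 319), (2, 1, 277), (3, 1, 693), (0, 0, 568), (0, 1, 362), (2, 1, 731), (4, 1, 414),
  (0, 0, 23), (0, 0, 726), (0, 0, 213), (1, 1, 449), (0, 0, 47), (3, 1, 417), (2, 1, 121), (0, 0, 137),
  (1, 1, 426), (4, 1, 99), (0, 0, 446), (0, 0, 535), (0, 1, 455), (0, 0, 671), (3, 1, 256), (0, 1, 301),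
  (0, 0, 754), (1, 1, 383), (0, 0, 469), (0, 0, 364), (2, 1, 181), (5, 1, 638), (0, 0, 242), (0, 0, 555),
  (1, 1, 479), (0, 0, 388), (1, 1, 557), (0, 1, 454), (4, 1, 220), (0, 0, 733), (0, 0, 513), (0, 0, 619),
  (0, 1, 397), (8, 1, 564), (0, 0, 701), (0, 0, 335), (0, 0, 112), (0, 0, 374), (0, 0, 84), (0, 0, 478),
  (1, 1, 603), (0, 1, 221), (3, 1, 721), (0, 0, 17), (0, 1, 689), (4, 1, 198), (0, 1, 662), (0, 0, 232),
  (5, 1, 204), (0, 0, 19), (0, 0, 203), (0, 0, 222), (0, 0, 443), (3, 1, 724), (0, 1, 545), (0, 0, 606),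
  (6, 1, 43), (0, 0, 573), (0, 0, 477), (0, 0, 39), (1, 1, 471), (2, 1, 231), (0, 0, 207), (0, 1, 275),
  (0, 0, 106), (0, 0, 533), (4, 1, 632), (0, 1, 508), (4, 1, 744), (0, 0, 14), (0, 0, 457), (0, 0, 647),
  (0, 0, 338), (1, 1, 138), (0, 1, 82), (3, 1, 120), (0, 1, 700), (3, 1, 441), (0, 1, 69), (0, 0, 104),
  (0, 0, 718), (1, 1, 674), (5, 1, 375), (0, 1, 363), (0, 0, 225), (0, 0, 403), (2, 1, 123), (0, 0, 607),
  (1, 1, 396), (0, 0, 276), (9, 1, 368), (0, 0, 551), (0, 0, 558), (0, 0, 272), (0, 0, 48), (0, 0, 473),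
  (1, 1, 130), (0, 1, 565), (0, 0, 617), (1, 1, 600), (0, 0, 238), (5, 1, 360), (0, 0, 399), (0, 0, 239)]

def trioOctForest24_1 : List (ℕ × ℕ × ℕ) := [
  (0, 0, 235), (0, 1, 264), (3, 1, 501), (0, 0, 611), (3, 1, 748), (0, 1, 56), (0, 0, 740), (5, 1, 621),
  (0, 0, 177), (0, 0, 152), (0, 0, 209), (1, 1, 635), (0, 0, 318), (1, 1, 725), (0, 1, 46), (4, 1, 293),
  (0, 0, 226), (1, 1, 189), (3, 1, 233), (0, 0, 279), (0, 0, 42), (0, 1, 450), (2, 1, 467), (2, 1, 666),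
  (0, 0, 433), (1, 1, 7), (0, 0, 758), (0, 1, 74), (7, 1, 687), (0, 0, 512), (0, 0, 345), (0, 0, 60),
  (0, 0, 244), (1, 1, 422), (0, 1, 720), (0, 1, 613), (4, 1, 447), (0, 0, 183), (0, 0, 190), (1, 1, 602),
  (2, 1, 553), (0, 1, 321), (4, 1, 89), (0, 0, 587), (1, 1, 36), (0, 0, 643), (0, 0, 359), (1, 1, 502),
  (0, 0, 411), (3, 1, 228), (0, 0, 605), (0, 1, 79), (6, 1, 122), (0, 1, 361), (0, 0, 604), (0, 0, 462),
  (1, 1, 456), (2, 1, 488), (5, 1, 111), (0, 0, 194), (0, 0, 711), (0, 0, 292), (0, 0, 15), (0, 0, 434),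
  (1, 1, 382), (3, 1, 176), (0, 0, 260), (0, 0, 196), (0, 0, 280), (2, 1, 750), (2, 1, 218), (0, 0, 625),
  (0, 1, 358), (2, 1, 614), (0, 1, 534), (5, 1, 697), (0, 0, 37), (0, 0, 381), (0, 0, 476), (1, 1, 487),
  (0, 1, 584), (3, 1, 461), (0, 0, 615), (0, 0, 248), (1, 1, 156), (2, 1, 703), (3, 1, 315), (0, 0, 133),
  (1, 1, 339), (0, 1, 201), (5, 1, 575), (0, 0, 306), (0, 0, 640), (0, 0, 179), (0, 0, 537), (0, 0, 737),
  (1, 1, 738), (3, 1, 290), (0, 0, 482), (0, 1, 124), (0, 0, 465), (3, 1, 514), (0, 0, 706), (4, 1, 216),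
  (0, 0, 372), (0, 0, 347), (2, 1, 144), (0, 0, 438), (0, 1, 125), (2, 1, 688), (0, 1, 170), (5, 1, 485),
  (0, 0, 259), (0, 0, 532), (0, 0, 576), (0, 1, 464), (2, 1, 654), (2, 1, 217), (0, 1, 95), (3, 1, 255),
  (0, 0, 409), (0, 0, 574), (0, 0, 661), (2, 1, 749), (0, 0, 34), (3, 1, 626), (0, 1, 561), (0, 1, 31)]

def trioOctForest24_2 : List (ℕ × ℕ × ℕ) := [
  (9, 1, 376), (0, 0, 444), (0, 0, 407), (0, 0, 154), (0, 0, 102), (0, 0, 161), (0, 0, 40), (0, 0, 497),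
  (0, 1, 252), (2, 1, 494), (2, 1, 495), (2, 1, 326), (0, 0, 302), (0, 0, 162), (2, 1, 237), (0, 1, 295),
  (0, 1, 521), (6, 1, 289), (0, 0, 644), (0, 0, 105), (0, 0, 641), (1, 1, 303), (0, 0, 71), (0, 0, 729),
  (0, 0, 572), (3, 1, 229), (3, 1, 739), (0, 0, 349), (0, 0, 523), (1, 1, 369), (0, 0, 592), (3, 1, 45),
  (0, 1, 10), (0, 0, 672), (5, 1, 274), (0, 0, 436), (0, 0, 357), (0, 0, 620), (1, 1, 676), (0, 1, 21),
  (3, 1, 245), (0, 0, 22), (1, 1, 185), (3, 1, 278), (0, 1, 745), (0, 0, 377), (1, 1, 247), (0, 0, 385),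
  (7, 1, 653), (0, 0, 571), (0, 0, 127), (0, 1, 234), (0, 0, 109), (0, 1, 498), (0, 0, 103), (3, 1, 659),
  (0, 0, 410), (0, 1, 166), (2, 1, 352), (5, 1, 669), (0, 0, 336), (0, 0, 416), (0, 0, 548), (0, 0, 413),
  (0, 1, 579), (2, 1, 393), (0, 0, 630), (1, 1, 408), (3, 1, 175), (2, 1, 167), (0, 1, 12), (0, 0, 547),
  (1, 1, 188), (0, 1, 538), (5, 1, 92), (0, 0, 344), (0, 0, 253), (0, 1, 337), (0, 1, 117), (3, 1, 371),
  (0, 1, 704), (0, 0, 678), (1, 1, 577), (8, 1, 650), (0, 0, 214), (0, 0, 285), (0, 0, 544), (0, 0, 714),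
  (0, 1, 554), (0, 0, 28), (1, 1, 230), (0, 0, 522), (5, 1, 158), (0, 0, 398), (0, 1, 257), (2, 1, 751),
  (0, 0, 6), (0, 0, 648), (0, 1, 78), (6, 1, 589), (0, 0, 404), (0, 1, 178), (0, 0, 304), (0, 0, 445),
  (1, 1, 668), (2, 1, 271), (0, 0, 246), (4, 1, 509), (0, 0, 87), (0, 0, 550), (1, 1, 108), (0, 0, 195),
  (0, 1, 325), (2, 1, 746), (3, 1, 593), (0, 0, 524), (0, 0, 588), (1, 1, 440), (0, 0, 212), (1, 1, 77),
  (7, 1, 386), (0, 0, 367), (0, 0, 16), (0, 0, 93), (0, 0, 460), (0, 0, 453), (0, 1, 174), (2, 1, 431)]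

def trioOctForest24_3 : List (ℕ × ℕ × ℕ) := [
  (2, 1, 400), (2, 1, 736), (0, 0, 586), (0, 0, 294), (1, 1, 88), (0, 0, 649), (3, 1, 379), (0, 0, 639),
  (0, 0, 395), (2, 1, 314), (0, 0, 59), (5, 1, 169), (0, 0, 596), (0, 0, 191), (0, 0, 291), (0, 0, 310),
  (4, 1, 86), (0, 1, 200), (0, 1, 468), (5, 1, 126), (0, 0, 107), (0, 1, 752), (0, 0, 199), (0, 0, 33),
  (0, 0, 677), (2, 1, 466), (2, 1, 652), (0, 1, 210), (0, 0, 474), (0, 0, 53), (2, 1, 81), (0, 1, 530),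
  (6, 1, 642), (0, 1, 268), (7, 1, 520), (0, 0, 168), (0, 0, 646), (0, 0, 202), (0, 0, 387), (0, 0, 623),
  (0, 0, 332), (0, 0, 192), (0, 0, 57), (2, 1, 578), (2, 1, 32), (0, 0, 536), (0, 0, 67), (1, 1, 483),
  (0, 0, 80), (3, 1, 322), (0, 0, 595), (4, 1, 556), (0, 1, 743), (0, 1, 401), (0, 1, 552), (5, 1, 601),
  (0, 0, 35), (0, 0, 612), (0, 1, 298), (0, 0, 83), (1, 1, 735), (3, 1, 300), (0, 0, 263), (0, 0, 496),
  (0, 0, 515), (0, 0, 755), (3, 1, 150), (2, 1, 692), (0, 1, 432), (4, 1, 320), (0, 0, 9), (0, 0, 598),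
  (0, 0, 690), (0, 1, 366), (2, 1, 343), (2, 1, 142), (0, 1, 348), (0, 1, 429), (4, 1, 153), (0, 1, 296),
  (0, 0, 591), (1, 1, 140), (6, 1, 519), (0, 0, 481), (0, 0, 223), (0, 0, 63), (0, 1, 390), (2, 1, 415),
  (0, 1, 540), (0, 1, 146), (4, 1, 68), (0, 0, 435), (0, 1, 681), (0, 0, 134), (5, 1, 710), (0, 0, 58),
  (0, 0, 51), (0, 0, 287), (0, 0, 91), (0, 1, 730), (3, 1, 559), (2, 1, 389), (0, 0, 569), (0, 0, 5),
  (2, 1, 585), (0, 0, 599), (4, 1, 72), (0, 1, 628), (0, 0, 299), (1, 1, 90), (0, 0, 499), (0, 0, 215),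
  (2, 1, 355), (0, 0, 665), (8, 1, 186), (0, 0, 115), (0, 0, 412), (0, 0, 384), (0, 0, 419), (0, 0, 346),
  (2, 1, 76), (0, 0, 673), (0, 0, 288), (1, 1, 655), (4, 1, 609), (0, 0, 13), (0, 0, 327), (0, 0, 470)]

def trioOctForest24_4 : List (ℕ × ℕ × ℕ) := [
  (3, 1, 418), (0, 0, 590), (4, 1, 160), (0, 0, 240), (0, 0, 317), (0, 0, 236), (0, 0, 680), (2, 1, 491),
  (2, 1, 452), (0, 0, 505), (1, 1, 539), (0, 1, 517), (0, 1, 562), (5, 1, 480), (0, 0, 164), (0, 0, 11),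
  (1, 1, 193), (0, 0, 525), (3, 1, 180), (0, 1, 627), (5, 1, 622), (0, 0, 98), (0, 0, 307), (0, 1, 451),
  (0, 1, 608), (0, 0, 723), (5, 1, 756), (0, 0, 27), (0, 0, 157), (0, 0, 709), (0, 0, 151), (2, 1, 265),
  (0, 0, 182), (0, 1, 38), (4, 1, 273), (0, 0, 631), (0, 0, 633), (0, 1, 18), (3, 1, 356), (0, 0, 708),
  (4, 1, 312), (0, 0, 691), (0, 0, 187), (2, 1, 131), (6, 1, 341), (0, 0, 658), (0, 0, 518), (0, 0, 24),
  (0, 0, 747), (0, 0, 251), (0, 0, 85), (0, 0, 753), (2, 1, 694), (0, 1, 402), (0, 0, 8), (4, 1, 163),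
  (3, 1, 392), (0, 0, 148), (1, 1, 378), (0, 0, 308), (0, 1, 742), (0, 0, 722), (1, 1, 171), (3, 1, 243),
  (0, 0, 313), (0, 1, 560), (6, 1, 155), (0, 0, 728), (0, 0, 424), (0, 0, 159), (0, 1, 503), (2, 1, 250),
  (0, 0, 667), (1, 1, 132), (0, 1, 96), (4, 1, 281), (0, 0, 211), (0, 0, 118), (1, 1, 566), (0, 1, 699),
  (5, 1, 227), (0, 0, 634), (0, 0, 472), (0, 0, 741), (0, 0, 580), (2, 1, 49), (0, 0, 370), (3, 1, 342),
  (0, 0, 405), (0, 1, 70), (0, 1, 660), (3, 1, 702), (0, 1, 543), (4, 1, 420), (0, 0, 430), (0, 0, 490),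
  (0, 1, 582), (0, 1, 423), (4, 1, 373), (0, 0, 262), (0, 0, 286), (2, 1, 732), (0, 0, 50), (1, 1, 116),
  (7, 1, 541), (0, 0, 62), (0, 0, 715), (0, 1, 707), (0, 1, 645), (0, 0, 94), (0, 1, 716), (2, 1, 563),
  (0, 0, 727), (5, 1, 712), (0, 0, 135), (0, 0, 365), (0, 0, 165), (0, 0, 391), (2, 1, 206), (0, 0, 266),
  (1, 1, 717), (0, 1, 329), (4, 1, 141), (0, 0, 567), (0, 1, 427), (4, 1, 129), (0, 1, 463), (0, 0, 75)]

def trioOctForest24_5 : List (ℕ × ℕ × ℕ) := [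
  (0, 0, 44), (2, 1, 284), (0, 0, 734), (0, 1, 583), (2, 1, 531), (6, 1, 20), (0, 0, 618), (0, 0, 629),
  (0, 0, 145), (0, 0, 52), (0, 0, 757), (2, 1, 421), (2, 1, 136), (0, 1, 2), (0, 1, 139), (4, 1, 100),
  (0, 0, 66), (0, 1, 270), (4, 1, 713), (0, 0, 637), (0, 0, 684), (0, 0, 249), (0, 0, 549), (2, 1, 114),
  (2, 1, 340), (0, 1, 61), (0, 0, 143), (4, 1, 73), (0, 1, 458), (0, 1, 719), (0, 1, 65)]

def trioOctForest24_ : List (ℕ × ℕ × ℕ) := trioOctForest24_0 ++ trioOctForest24_1 ++ trioOctForest24_2 ++ trioOctForest24_3 ++ trioOctForest24_4 ++ trioOctForest24_5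

theorem trioOct_class24 :
    classOk 2 trioOctBase trioOctGens octChunks 24 1 trioOctForest24_ 3032261899024822137154134399974422980946338882373470947995580981013640907347960317006080142943814256731438511459163894947678855679499962897951114162934773107194050616719161900332736100354476624332001397278259450630306724046700518 672 = true := by
  decide +kernel

theorem trioOct_cover : coverOk 2 trioOctBase octChunks [64, 32, 24] = true := by
  decide +kernel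

end CfsgLib.M24Elt
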